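import Mathlib
import Groth.Agent.CechX.BasicOpens
import Groth.Agent.CechX.KoszulBasic
import Groth.Agent.CechX.KoszulPoly
import Groth.Agent.CohQC.Restrict

/-!
Čech acyclicity of basic opens of global functions generating the unit ideal on their union.
-/

set_option autoImplicit false

namespace Groth.Agent.CechPU

universe u

open CategoryTheory CategoryTheory.Limits TopologicalSpace Opposite AlgebraicGeometry
open Groth.Agent.SiteCoh Groth.Agent.CechX

theorem span_map_pow_eq_top {R : Type u} [CommRing R] (fs : List R)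
    (h : Ideal.span {a | a ∈ fs} = ⊤) (n : ℕ) :
    Ideal.span {a | a ∈ fs.map (· ^ n)} = ⊤ := by
  have e : {a | a ∈ fs.map (· ^ n)} = (· ^ n) '' {a | a ∈ fs} := by
    ext a
    simp
  rw [e]
  exact Ideal.span_pow_eq_top _ h n

theorem subsingleton_koszulHLim {R : Type u} [CommRing R] (M : ModuleCat.{u} R) (fs : List R)
    (h : Ideal.span {a | a ∈ fs} = ⊤) (p : ℕ) : Subsingleton (CohIII.koszulHLim fs M p) :=
  subsingleton_koszulHLim_of_isZero (M := M) fs p fun n =>
    isZero_homology_of_nullHtpy_one (nullHtpy_of_mem_span (M := M)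
      (show (1 : R) ∈ Ideal.span {a | a ∈ fs.map (· ^ n)} by
        rw [span_map_pow_eq_top fs h n]; trivial)) _

/-- The quasi-compact case. -/
theorem isZero_cechH_get {Y : Scheme.{u}} [CompactSpace Y] [QuasiSeparatedSpace Y] (F : Y.Modules)
    [Coh.IsQCoh F] (fs : List (GR Y)) (h : Ideal.span {a | a ∈ fs} = ⊤) (p : ℕ) (hp : 0 < p) :
    IsZero (CohB1.cechH (fun i : ULift.{u} (Fin fs.length) => Y.basicOpen (fs.get i.down)) F p) := by
  obtain ⟨e⟩ := nonempty_cechH_equiv F fs p hp
  have := subsingleton_koszulHLim (globM F) fs h (p + 1)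
  have := e.toEquiv.subsingleton
  exact AddCommGrpCat.isZero_of_subsingleton _

theorem isZero_cechH_fin {Y : Scheme.{u}} [CompactSpace Y] [QuasiSeparatedSpace Y] (F : Y.Modules)
    [Coh.IsQCoh F] (s : Σ n, Fin n → GR Y) (h : Ideal.span (Set.range s.2) = ⊤) (p : ℕ) (hp : 0 < p) :
    IsZero (CohB1.cechH (fun i : ULift.{u} (Fin s.1) => Y.basicOpen (s.2 i.down)) F p) := by
  obtain ⟨fs, rfl⟩ := List.equivSigmaTuple.surjective s
  refine isZero_cechH_get F fs ?_ p hp
  rw [← h]
  congr 1
  ext a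
  exact List.mem_iff_get


theorem isZero_cechH_fin' {Y : Scheme.{u}} [CompactSpace Y] [QuasiSeparatedSpace Y] (F : Y.Modules)
    [Coh.IsQCoh F] {n : ℕ} (f : Fin n → GR Y) (h : Ideal.span (Set.range f) = ⊤) (W : ULift.{u} (Fin n) → Y.Opens)
    (hW : ∀ i, Y.basicOpen (f i.down) = W i) (p : ℕ) (hp : 0 < p) :
    IsZero (CohB1.cechH W F p) := by
  obtain rfl : (fun i : ULift.{u} (Fin n) => Y.basicOpen (f i.down)) = W := funext hW
  exact isZero_cechH_fin F ⟨n, f⟩ h p hp

set_option maxHeartbeats 800000 in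
theorem cechExact_of_restrict {X : Scheme.{u}} (U : X.Opens) (G : X.Modules) {ι : Type u}
    (V : ι → X.Opens) (hV : ∀ i, V i ≤ U) (q : ℕ)
    (h : CechExact (fun i => U.ι ⁻¹ᵁ (V i)) (G.restrict U.ι).presheaf q) :
    CechExact V G.presheaf q := by
  have key : ∀ {m : ℕ} (a : Fin (m + 1) → ι),
      U.ι ''ᵁ (tupleProd (fun i => U.ι ⁻¹ᵁ (V i)) a) = tupleProd V a := by
    intro m a
    rw [← preimage_tupleProd U.ι.base V a, Scheme.Hom.image_preimage_eq_opensRange_inf, Scheme.Opens.opensRange_ι]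
    refine inf_eq_right.2 ?_
    rw [tupleProd_eq_iInf]
    exact (iInf_le _ 0).trans (hV _)
  let res {m : ℕ} (x : Cochain V G.presheaf m) :
      Cochain (fun i => U.ι ⁻¹ᵁ (V i)) (G.restrict U.ι).presheaf m :=
    fun a => G.presheaf.map (eqToHom (key a)).op (x a)
  have hinj : ∀ {m : ℕ} {x y : Cochain V G.presheaf m}, res x = res y → x = y := by
    intro m x y e
    funext a
    have := congrArg (fun s => G.presheaf.map (eqToHom (key a).symm).op s) (congrFun e a)
    simpa only [res, map_eqToHom_cancel] using this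
  have hsurj : ∀ {m : ℕ} (y : Cochain (fun i => U.ι ⁻¹ᵁ (V i)) (G.restrict U.ι).presheaf m),
      ∃ x : Cochain V G.presheaf m, res x = y := by
    intro m y
    exact ⟨fun a => G.presheaf.map (eqToHom (key a).symm).op (y a),
      funext fun a => map_eqToHom_cancel G.presheaf (key a) (key a).symm (y a)⟩
  have hd : ∀ {m : ℕ} (x : Cochain V G.presheaf m), res (cd V _ x) = cd _ _ (res x) := by
    intro m x
    funext a
    show G.presheaf.map (eqToHom (key a)).op (cd V _ x a) = _
    rw [cd_sum, cd_sum, map_sum]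
    refine Finset.sum_congr rfl fun k _ => ?_
    rw [map_zsmul]
    refine congrArg _ ?_
    show G.presheaf.map _ (G.presheaf.map _ (x _)) =
      G.presheaf.map (U.ι.opensFunctor.map (tupleDrop (fun i => U.ι ⁻¹ᵁ (V i)) a k)).op
        (G.presheaf.map _ (x _))
    rw [← ConcreteCategory.comp_apply, ← G.presheaf.map_comp, ← ConcreteCategory.comp_apply,
      ← G.presheaf.map_comp]
    exact congrArg (fun φ => G.presheaf.map φ (x (a ∘ k.succAbove))) (Subsingleton.elim _ _)
  intro x hx
  have hres0 : res (0 : Cochain V G.presheaf (q + 1 + 1)) = 0 := funext fun a => map_zero _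
  obtain ⟨y, hy⟩ := h (res x) (by rw [← hd, hx, hres0])
  obtain ⟨z, rfl⟩ := hsurj y
  exact ⟨z, hinj ((hd z).trans hy)⟩

theorem preimage_basicOpen_topIso {X : Scheme.{u}} (U : X.Opens) (a : Γ(X, U)) (V : X.Opens)
    (hV : V ≤ U) (e : X.basicOpen a = V) : U.ι ⁻¹ᵁ V = U.toScheme.basicOpen (U.topIso.inv a) := by
  apply U.ι.image_injective
  beta_reduce
  rw [Scheme.Opens.ι_image_basicOpen_topIso_inv, e, Scheme.Hom.image_preimage_eq_opensRange_inf,
    Scheme.Opens.opensRange_ι]
  exact inf_eq_right.2 hV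

set_option maxHeartbeats 300000 in
theorem isZero_cechH_aux {X : Scheme.{u}} [QuasiSeparatedSpace X] (U : X.Opens) (hU : IsCompact (U : Set X))
    {n : ℕ} (V : Fin n → X.Opens) (hV : ∀ i, V i ≤ U) (a : Fin n → Γ(X, U))
    (ha : ∀ i, X.basicOpen (a i) = V i) (g : Fin n → Γ(X, U)) (hg : ∑ i, g i * a i = 1)
    (G : X.Modules) [Coh.IsQCoh G] (q : ℕ) :
    IsZero (CohB1.cechH (fun i : ULift.{u} (Fin n) => V i.down) G (q + 1)) := by
  have : CompactSpace U.toScheme := isCompact_iff_compactSpace.1 hU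
  have : QuasiSeparatedSpace U.toScheme := U.ι.isOpenEmbedding.quasiSeparatedSpace
  have : Coh.IsQCoh (G.restrict U.ι) :=
    Scheme.Modules.isQuasicoherent_restrictFunctor U.ι G
  have hspan : Ideal.span (Set.range fun i => (U.topIso.inv (a i) : GR U.toScheme)) = ⊤ := by
    rw [Ideal.eq_top_iff_one]
    have := congrArg U.topIso.inv.hom hg
    rw [map_one, map_sum] at this
    rw [← this]
    refine Ideal.sum_mem _ fun i _ => ?_
    rw [map_mul]
    exact Ideal.mul_mem_left _ _ (Ideal.subset_span ⟨i, rfl⟩)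
  have h := isZero_cechH_fin' (G.restrict U.ι) _ hspan (fun i => U.ι ⁻¹ᵁ (V i.down))
    (fun i => (preimage_basicOpen_topIso U _ _ (hV _) (ha _)).symm) (q + 1) q.succ_pos
  change IsZero ((cechCx (fun i : ULift.{u} (Fin n) => U.ι ⁻¹ᵁ (V i.down)) (G.restrict U.ι).presheaf).homology (q + 1)) at h
  have h1 := (isZero_cech_iff (fun i : ULift.{u} (Fin n) => U.ι ⁻¹ᵁ (V i.down)) (G.restrict U.ι).presheaf q).1 h
  change IsZero ((cechCx (fun i : ULift.{u} (Fin n) => V i.down) G.presheaf).homology (q + 1))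
  exact (isZero_cech_iff _ _ q).2 (cechExact_of_restrict U G (fun i : ULift.{u} (Fin n) => V i.down)
    (fun i => hV i.down) q h1)

/-- Čech acyclicity for a family of basic opens with a partition of unity on the union. -/
theorem isZero_cechH {X : Scheme.{u}} [QuasiSeparatedSpace X] {n : ℕ} (f : Fin n → Γ(X, ⊤))
    (hqc : ∀ i, IsCompact (X.basicOpen (f i) : Set X))
    (g : Fin n → Γ(X, ⨆ i, X.basicOpen (f i)))
    (hg : (Finset.univ.sum fun i => g i *
      (X.presheaf.map (homOfLE (le_top : (⨆ i, X.basicOpen (f i)) ≤ ⊤)).op).hom (f i)) = 1)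
    (G : X.Modules) [Coh.IsQCoh G] (p : ℕ) (hp : 0 < p) :
    IsZero (CohB1.cechH (fun i : ULift.{u} (Fin n) => X.basicOpen (f i.down)) G p) := by
  obtain ⟨q, rfl⟩ := Nat.exists_eq_add_of_le' hp
  refine isZero_cechH_aux _ ?_ (fun i => X.basicOpen (f i)) (fun i => le_iSup (fun j => X.basicOpen (f j)) i)
    _ (fun i => ?_) g hg G q
  · rw [Opens.coe_iSup]
    exact isCompact_iUnion hqc
  · rw [Scheme.basicOpen_res]
    exact inf_eq_right.2 (le_iSup (fun j => X.basicOpen (f j)) i)

end Groth.Agent.CechPU
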